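import Cfsg.Agent.Lib.Spor.Cos.ONRep.Mat
import Cfsg.Agent.Lib.Spor.Cos.ONRep.Data

/-! The seven matrices are involutions and satisfy the relations up to scalars. -/

set_option autoImplicit false
set_option maxRecDepth 100000
set_option maxHeartbeats 4000000

open Cfsg.Agent.Spor.Cos

namespace Cfsg.Agent.Spor.Cos.ONRep

/-- The rows of a generator. -/
def gRows (s : ℕ) : List ℕ := rep45.getD s []

/-- Multiply by the generators of a word, the first letter first. -/
noncomputable def goMat (w : List ℕ) : ℕ → ℕ :=
  List.rec (motive := fun _ => ℕ → ℕ) (fun X => X) (fun s _ f X => force (mulMat X (gRows s)) fun Y => f Y) w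

theorem goMat_cons (s : ℕ) (w : List ℕ) (X : ℕ) : goMat (s :: w) X = goMat w (mulMat X (gRows s)) := by
  simp only [goMat, force_eq]

/-- The identity matrix, packed. -/
noncomputable def unitMat : ℕ :=
  Nat.rec (motive := fun _ => ℕ → ℕ) (fun _ => 0)
    (fun _ r i => force (r (Nat.add i 1)) fun q => Nat.add (Nat.pow 2 (Nat.mul 16 i)) (Nat.mul (Nat.pow 2 rowBits) q)) 45 0

theorem gRows_ok : ∀ s < 7, chkMat (gRows s) = true := by
  intro s hs
  exact List.all_eq_true.1 (by decide +kernel : (List.range 7).all (fun s => chkMat (gRows s)) = true) s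
    (List.mem_range.2 hs)

theorem sq_ok : (List.range 7).all (fun s => Nat.beq (goMat [s, s] unitMat) unitMat) = true := by decide +kernel

theorem rel_ok : (ON.words.zip rep45k).all (fun r => Nat.beq (goMat r.1 unitMat) (Nat.mul (2 ^ r.2) unitMat)) = true := by
  decide +kernel

theorem first_ok : Nat.beq (goMat [0] unitMat) unitMat = false := by decide +kernel

theorem unit_ok : entriesAre unitMat (fun r j => if r = j then 1 else 0) = true := by decide +kernel

theorem unit_lt : unitMat < 2 ^ allBits := by decide +kernel

theorem scalar_ok : ∀ e < 3, entriesAre (Nat.mul (2 ^ e) unitMat) (fun r j => if r = j then 2 ^ e else 0) = true := by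
  intro e he
  exact List.all_eq_true.1 (by decide +kernel : (List.range 3).all
    (fun e => entriesAre (Nat.mul (2 ^ e) unitMat) (fun r j => if r = j then 2 ^ e else 0)) = true) e (List.mem_range.2 he)

theorem rel_exp : rep45k.all (fun e => Nat.blt e 3) = true := by decide +kernel

theorem rel_len : ON.words.length = rep45k.length := by decide +kernel

theorem rel_letters : ON.words.all (fun w => w.all fun s => Nat.blt s 7) = true := by decide +kernel

end Cfsg.Agent.Spor.Cos.ONRep
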