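import Mathlib

/-! A simple group mapping into a central quotient of a general linear group lifts to determinant one. -/

set_option autoImplicit false

namespace Cfsg.Agent.Spor.Cos.ONRep

variable {ι : Type} [Fintype ι] [DecidableEq ι] {K : Type} [CommRing K]

/-- The preimage of a simple non-commutative subgroup of a central quotient of the general linear group, cut down to
determinant one, has the central subgroup as its centre and the simple group as its central quotient. -/
theorem exists_cover_of_projective {P : Type} [Group P] [IsSimpleGroup P] (hnc : ∃ x y : P, x * y ≠ y * x)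
    (z : GL ι K) (hc : ∀ x : GL ι K, x * z = z * x) (hd : Matrix.GeneralLinearGroup.det z = 1)
    {Z : Subgroup (GL ι K)} [Z.Normal] (hZz : Z = Subgroup.zpowers z) (φ : P →* GL ι K ⧸ Z)
    (hne : ∃ a, φ a ≠ 1) :
    ∃ H : Subgroup (Matrix.SpecialLinearGroup ι K),
      Nat.card (Subgroup.center H) = orderOf z ∧ Nonempty ((H ⧸ Subgroup.center H) ≃* P) := by
  classical
  subst hZz
  obtain ⟨x₀, y₀, hxy⟩ := hnc
  obtain ⟨a₀, ha₀⟩ := hne
  have hle : Subgroup.zpowers z ≤ Subgroup.center (GL ι K) := Subgroup.zpowers_le.2 (Subgroup.mem_center_iff.2 hc)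
  let mk := QuotientGroup.mk' (Subgroup.zpowers z)
  have hinj : Function.Injective φ := by
    rw [← MonoidHom.ker_eq_bot_iff]
    rcases (inferInstance : φ.ker.Normal).eq_bot_or_eq_top with h | h
    · exact h
    · exact absurd (MonoidHom.mem_ker.1 (h ▸ Subgroup.mem_top a₀)) ha₀
  let dt : GL ι K →* Kˣ := Matrix.GeneralLinearGroup.det
  have hZ : Subgroup.zpowers z ≤ dt.ker := Subgroup.zpowers_le.2 (MonoidHom.mem_ker.2 hd)
  let δ : P →* Kˣ := (QuotientGroup.lift _ dt hZ).comp φ
  have hdet : ∀ a, δ a = 1 := by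
    intro a
    rcases (inferInstance : δ.ker.Normal).eq_bot_or_eq_top with h | h
    · exact absurd ((MonoidHom.ker_eq_bot_iff δ).1 h (by rw [map_mul, map_mul, mul_comm])) hxy
    · exact MonoidHom.mem_ker.1 (h ▸ Subgroup.mem_top a)
  let toG : Matrix.SpecialLinearGroup ι K →* GL ι K := Matrix.SpecialLinearGroup.toGL
  have toG_inj : Function.Injective toG := fun a b h =>
    Subtype.ext (congrArg (fun u : GL ι K => (u : Matrix ι ι K)) h)
  let H : Subgroup (Matrix.SpecialLinearGroup ι K) := (φ.range.comap mk).comap toG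
  let res : H →* φ.range := (mk.comp (toG.comp H.subtype)).codRestrict _ fun x => x.2
  let ρ : H →* P := (MonoidHom.ofInjective hinj).symm.toMonoidHom.comp res
  have hsurj : Function.Surjective ρ := fun a => by
    obtain ⟨m, hm⟩ := QuotientGroup.mk'_surjective (Subgroup.zpowers z) (φ a)
    have hd1 : dt m = 1 := by
      have := hdet a
      simp only [δ, MonoidHom.comp_apply, ← hm] at this
      exact this
    let A : Matrix.SpecialLinearGroup ι K := ⟨(m : Matrix ι ι K), congrArg Units.val hd1⟩
    have hA : toG A = m := Units.ext rfl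
    refine ⟨⟨A, show mk (toG A) ∈ φ.range by rw [hA]; exact ⟨a, hm.symm⟩⟩, ?_⟩
    show (MonoidHom.ofInjective hinj).symm _ = a
    rw [MulEquiv.symm_apply_eq]
    exact Subtype.ext (by show mk (toG A) = φ a; rw [hA]; exact hm)
  have hker : ∀ x : H, x ∈ ρ.ker ↔ toG x.1 ∈ Subgroup.zpowers z := fun x => by
    rw [MonoidHom.mem_ker]
    show (MonoidHom.ofInjective hinj).symm (res x) = 1 ↔ _
    rw [map_eq_one_iff _ (MulEquiv.injective _), ← QuotientGroup.eq_one_iff]
    exact ⟨fun h => congrArg Subtype.val h, fun h => Subtype.ext h⟩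
  have hcen : ρ.ker ≤ Subgroup.center H := fun x hx => Subgroup.mem_center_iff.2 fun y => Subtype.ext (toG_inj (by
    rw [Subgroup.coe_mul, Subgroup.coe_mul, map_mul, map_mul]
    exact Subgroup.mem_center_iff.1 (hle ((hker x).1 hx)) (toG y.1)))
  have hker2 : Subgroup.center H ≤ ρ.ker := fun x hx => by
    rw [MonoidHom.mem_ker]
    by_contra h
    have hc' : ρ x ∈ Subgroup.center P := Subgroup.mem_center_iff.2 fun b => by
      obtain ⟨y, rfl⟩ := hsurj b
      rw [← map_mul, ← map_mul, Subgroup.mem_center_iff.1 hx y]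
    rcases (inferInstance : (Subgroup.center P).Normal).eq_bot_or_eq_top with hb | ht
    · exact h (Subgroup.mem_bot.1 (hb ▸ hc'))
    · exact hxy (Subgroup.mem_center_iff.1 (ht ▸ Subgroup.mem_top y₀) x₀)
  have heq : Subgroup.center H = ρ.ker := le_antisymm hker2 hcen
  refine ⟨H, ?_, ⟨(QuotientGroup.quotientMulEquivOfEq heq).trans (QuotientGroup.quotientKerEquivOfSurjective ρ hsurj)⟩⟩
  rw [heq, ← Nat.card_zpowers z]
  refine Nat.card_eq_of_bijective (fun x : ρ.ker => (⟨toG x.1.1, (hker x.1).1 x.2⟩ : Subgroup.zpowers z))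
    ⟨fun x y h => ?_, fun w => ?_⟩
  · exact Subtype.ext (Subtype.ext (toG_inj (congrArg Subtype.val h)))
  · have hd1 : dt w.1 = 1 := MonoidHom.mem_ker.1 (hZ w.2)
    let A : Matrix.SpecialLinearGroup ι K := ⟨(w.1 : Matrix ι ι K), congrArg Units.val hd1⟩
    have hA : toG A = w.1 := Units.ext rfl
    have hm : mk (toG A) = 1 := by
      rw [hA, QuotientGroup.mk'_apply, QuotientGroup.eq_one_iff]
      exact w.2
    exact ⟨⟨⟨A, show mk (toG A) ∈ φ.range by rw [hm]; exact one_mem _⟩, (hker _).2 (by rw [hA]; exact w.2)⟩,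
      Subtype.ext hA⟩

end Cfsg.Agent.Spor.Cos.ONRep
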