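import Cfsg.Agent.Lib.Spor.Cos.ONRep.Lift
import Cfsg.Agent.Lib.Spor.Cos.ONRep.Projective

/-! A subgroup of determinant one with centre of order three from the projective representation. -/

set_option autoImplicit false
set_option maxRecDepth 100000

open Cfsg.Agent.Spor.Cos

namespace Cfsg.Agent.Spor.Cos.ONRep

attribute [local irreducible] two45 gl45

theorem two_cubed : (2 : ZMod 7) ^ 3 = 1 := by decide

theorem two45_cubed : two45 ^ 3 = (1 : G45) :=
  Units.ext (by rw [two45_pow, Units.val_one, two_cubed, one_smul])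

theorem two45_order : orderOf two45 = 3 := by
  have : Fact (Nat.Prime 3) := ⟨Nat.prime_three⟩
  refine orderOf_eq_prime two45_cubed fun h => ?_
  have h1 := two45_pow 1
  rw [pow_one, h, Units.val_one, pow_one] at h1
  have h2 := congrFun (congrFun h1 0) 0
  rw [Matrix.smul_apply, Matrix.one_apply_eq, smul_eq_mul, mul_one] at h2
  exact absurd h2 (by decide)

theorem two45_det : Matrix.GeneralLinearGroup.det two45 = 1 := by
  refine Units.ext ?_
  rw [Matrix.GeneralLinearGroup.val_det_apply, Units.val_one]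
  have h1 := two45_pow 1
  rw [pow_one, pow_one] at h1
  rw [h1, Matrix.det_smul, Matrix.det_one, mul_one, Fintype.card_fin, show (45 : ℕ) = 3 * 15 from rfl, pow_mul,
    two_cubed, one_pow]

theorem exists_proj {P : Type} [Group P] {Z : Subgroup G45} [Z.Normal] (hZ : two45 ∈ Z) (g : ℕ → P)
    (hlift : ∀ {H : Type} [Group H] (σ : ℕ → H), (∀ s, σ s * σ s = 1) → (∀ w ∈ ON.words, ev σ w = 1) →
      (∀ s, 7 ≤ s → σ s = 1) → ∃ φ : P →* H, ∀ s, φ (g s) = σ s) :
    ∃ φ : P →* G45 ⧸ Z, ∀ s, φ (g s) = QuotientGroup.mk' Z (gl45 s) := by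
  refine hlift _ (fun s => by rw [← map_mul, gl45_sq, map_one]) (fun w hw => ?_) (fun s hs => ?_)
  · obtain ⟨k, hk, rfl⟩ := List.getElem_of_mem hw
    have hk2 : k < (ON.words.zip rep45k).length := by rw [List.length_zip, ← rel_len, min_self]; exact hk
    have h := ev_rel (List.getElem_mem hk2)
    have e1 : ((ON.words.zip rep45k)[k]'hk2).1 = ON.words[k] := congrArg Prod.fst List.getElem_zip
    refine (ev_map (QuotientGroup.mk' Z) gl45 _).symm.trans ?_
    refine (congrArg (QuotientGroup.mk' Z) ((congrArg (ev gl45) e1).symm.trans h)).trans ?_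
    rw [map_pow, show QuotientGroup.mk' Z two45 = 1 from (QuotientGroup.eq_one_iff _).2 hZ, one_pow]
  · rw [show gl45 s = 1 by simp [gl45, Nat.not_lt.2 hs], map_one]

/-- A simple group with seven involutory generators satisfying the relations is the central quotient of a
subgroup of the special linear group with centre of order three. -/
theorem exists_sl_cover {P : Type} [Group P] [IsSimpleGroup P] (g : ℕ → P) (hnc : ∃ x y : P, x * y ≠ y * x)
    (hlift : ∀ {H : Type} [Group H] (σ : ℕ → H), (∀ s, σ s * σ s = 1) → (∀ w ∈ ON.words, ev σ w = 1) →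
      (∀ s, 7 ≤ s → σ s = 1) → ∃ φ : P →* H, ∀ s, φ (g s) = σ s) :
    ∃ H : Subgroup (Matrix.SpecialLinearGroup (Fin 45) (ZMod 7)),
      Nat.card (Subgroup.center H) = 3 ∧ Nonempty ((H ⧸ Subgroup.center H) ≃* P) := by
  let Z := Subgroup.zpowers two45
  have hle : Subgroup.zpowers two45 ≤ Subgroup.center G45 :=
    (Subgroup.zpowers_le (H := Subgroup.center G45)).2 ((Subgroup.mem_center_iff (G := G45)).2 two45_central)
  have : Z.Normal := ⟨fun x hx y => by
    rw [(Subgroup.mem_center_iff (G := G45)).1 (hle hx) y, mul_inv_cancel_right]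
    exact hx⟩
  obtain ⟨φ, hφ⟩ := exists_proj (Subgroup.mem_zpowers two45) g hlift
  have hne : φ (g 0) ≠ 1 := fun h => by
    rw [hφ 0, QuotientGroup.mk'_apply, QuotientGroup.eq_one_iff] at h
    obtain ⟨n, hn⟩ := h
    have h6 : gl45 0 ^ 3 = 1 := by
      rw [← hn, ← zpow_natCast, ← zpow_mul, mul_comm, zpow_mul, zpow_natCast, two45_cubed, one_zpow]
    rw [pow_succ, pow_two, gl45_sq, one_mul] at h6
    exact gl45_ne h6
  obtain ⟨H, h1, h2⟩ := exists_cover_of_projective hnc two45 two45_central two45_det (Z := Z) rfl φ ⟨g 0, hne⟩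
  exact ⟨H, h1.trans two45_order, h2⟩

end Cfsg.Agent.Spor.Cos.ONRep
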