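import Mathlib
import Cfsg.Agent.Lib.Spor.Cos.Words

/-!
Square matrices over the field of seven elements packed into one number, sixteen bits to an entry, multiplied by
one product of numbers for each column.
-/

set_option autoImplicit false
set_option maxRecDepth 100000

open Cfsg.Agent.Spor.Cos

namespace Cfsg.Agent.Spor.Cos.ONRep

/-- The bits of a row. -/
def rowBits : ℕ := 16 * 45

/-- The bits of a matrix. -/
def allBits : ℕ := rowBits * 45

/-- Digit `k` of a number in base `2 ^ b`. -/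
def digit (b X k : ℕ) : ℕ := X / (2 ^ b) ^ k % 2 ^ b

theorem digit_lt (b X k : ℕ) : digit b X k < 2 ^ b := Nat.mod_lt _ (Nat.two_pow_pos b)

theorem sum_digit_lt {b : ℕ} : ∀ (L : ℕ) (a : ℕ → ℕ), (∀ k < L, a k < 2 ^ b) →
    ∑ k ∈ Finset.range L, a k * (2 ^ b) ^ k < (2 ^ b) ^ L
  | 0, _, _ => by simp
  | L + 1, a, h => by
    rw [Finset.sum_range_succ, pow_succ]
    have h1 := sum_digit_lt L a fun k hk => h k (Nat.lt_succ_of_lt hk)
    have h2 : a L + 1 ≤ 2 ^ b := h L (Nat.lt_succ_self L)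
    have h3 := Nat.mul_le_mul_right ((2 ^ b) ^ L) h2
    rw [add_mul, one_mul, mul_comm (2 ^ b) ((2 ^ b) ^ L)] at h3
    omega

theorem digit_sum {b : ℕ} : ∀ (L : ℕ) (a : ℕ → ℕ), (∀ k < L, a k < 2 ^ b) → ∀ k < L,
    digit b (∑ i ∈ Finset.range L, a i * (2 ^ b) ^ i) k = a k
  | 0, _, _, _, hk => absurd hk (Nat.not_lt_zero _)
  | L + 1, a, h, k, hk => by
    have hL := fun i (hi : i < L) => h i (Nat.lt_succ_of_lt hi)
    rw [Finset.sum_range_succ]
    rcases Nat.lt_or_eq_of_le (Nat.le_of_lt_succ hk) with hlt | rfl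
    · have e : a L * (2 ^ b) ^ L = (2 ^ b) ^ k * (2 ^ b * (a L * (2 ^ b) ^ (L - k - 1))) := by
        rw [← mul_assoc, ← pow_succ, mul_left_comm, ← pow_add]
        congr 2
        omega
      rw [digit, e, Nat.add_mul_div_left _ _ (pow_pos (Nat.two_pow_pos b) k), Nat.add_mul_mod_self_left]
      exact digit_sum L a hL k hlt
    · rw [digit, mul_comm (a k), Nat.add_mul_div_left _ _ (pow_pos (Nat.two_pow_pos b) k),
        Nat.div_eq_of_lt (sum_digit_lt k a hL), zero_add, Nat.mod_eq_of_lt (h k (Nat.lt_succ_self k))]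

theorem eq_sum_digit {b : ℕ} : ∀ (L X : ℕ), X < (2 ^ b) ^ L →
    X = ∑ k ∈ Finset.range L, digit b X k * (2 ^ b) ^ k
  | 0, X, h => by simpa using h
  | L + 1, X, h => by
    have hq : X / 2 ^ b < (2 ^ b) ^ L := Nat.div_lt_of_lt_mul (by rw [← pow_succ']; exact h)
    have ih := eq_sum_digit L (X / 2 ^ b) hq
    have hd : ∀ k, digit b (X / 2 ^ b) k = digit b X (k + 1) := fun k => by
      rw [digit, digit, Nat.div_div_eq_div_mul, ← pow_succ']
    simp only [hd] at ih
    rw [Finset.sum_range_succ']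
    simp only [digit, pow_zero, Nat.div_one, mul_one]
    conv_lhs => rw [← Nat.div_add_mod X (2 ^ b), ih, Finset.mul_sum]
    simp only [digit, pow_succ']
    congr 1
    exact Finset.sum_congr rfl fun k _ => by ring

theorem digit_land {b : ℕ} (X Y k : ℕ) : digit b (X &&& Y) k = digit b X k &&& digit b Y k := by
  simp only [digit, ← pow_mul, ← Nat.shiftRight_eq_div_pow, ← Nat.and_two_pow_sub_one_eq_mod,
    Nat.shiftRight_and_distrib]
  rw [Nat.and_assoc, Nat.and_assoc, Nat.and_left_comm (2 ^ b - 1), Nat.and_self]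

/-- The entry in row `r` and column `j`. -/
def entry (X r j : ℕ) : ℕ := digit 16 (digit rowBits X r) j

theorem entry_lt (X r j : ℕ) : entry X r j < 2 ^ 16 := digit_lt _ _ _

theorem pow_row : (2 ^ rowBits : ℕ) = (2 ^ 16) ^ 45 := pow_mul 2 16 45

theorem pow_all : (2 ^ allBits : ℕ) = (2 ^ rowBits) ^ 45 := pow_mul 2 rowBits 45

attribute [irreducible] rowBits allBits

/-- A number with the given entries. -/
def packed (f : ℕ → ℕ → ℕ) : ℕ :=
  ∑ r ∈ Finset.range 45, (∑ j ∈ Finset.range 45, f r j * (2 ^ 16) ^ j) * (2 ^ rowBits) ^ r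

theorem row_lt {f : ℕ → ℕ} (h : ∀ j < 45, f j < 2 ^ 16) :
    ∑ j ∈ Finset.range 45, f j * (2 ^ 16) ^ j < 2 ^ rowBits := pow_row ▸ sum_digit_lt 45 f h

theorem packed_lt {f : ℕ → ℕ → ℕ} (h : ∀ r < 45, ∀ j < 45, f r j < 2 ^ 16) : packed f < 2 ^ allBits :=
  pow_all ▸ sum_digit_lt 45 _ fun r hr => row_lt (h r hr)

theorem entry_packed {f : ℕ → ℕ → ℕ} (h : ∀ r < 45, ∀ j < 45, f r j < 2 ^ 16) {r j : ℕ} (hr : r < 45)
    (hj : j < 45) : entry (packed f) r j = f r j := by
  rw [entry, packed, digit_sum 45 _ (fun r' hr' => row_lt (h r' hr')) r hr, digit_sum 45 _ (h r hr) j hj]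

theorem eq_packed {X : ℕ} (h : X < 2 ^ allBits) : X = packed (entry X) :=
  (eq_sum_digit (b := rowBits) 45 X (pow_all ▸ h)).trans (Finset.sum_congr rfl fun r _ => by
    rw [← eq_sum_digit (b := 16) 45 (digit rowBits X r) (pow_row ▸ digit_lt _ _ _) |>.trans
      (show ∑ j ∈ Finset.range 45, digit 16 (digit rowBits X r) j * (2 ^ 16) ^ j =
        ∑ j ∈ Finset.range 45, entry X r j * (2 ^ 16) ^ j from rfl)])

theorem entry_land (X Y r j : ℕ) : entry (X &&& Y) r j = entry X r j &&& entry Y r j := by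
  rw [entry, digit_land, digit_land]; rfl

/-- The mark of a column: three bits in every row. -/
noncomputable def colM : ℕ :=
  Nat.rec (motive := fun _ => ℕ) 0 (fun _ r => force r fun q => Nat.add 7 (Nat.mul (Nat.pow 2 rowBits) q)) 45

/-- The mark of three bits in every entry. -/
noncomputable def low3 : ℕ :=
  Nat.rec (motive := fun _ => ℕ) 0 (fun _ r => force r fun q => Nat.add 7 (Nat.mul (Nat.pow 2 16) q)) 2025

/-- The mark of twelve bits in every entry. -/
noncomputable def low12 : ℕ :=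
  Nat.rec (motive := fun _ => ℕ) 0 (fun _ r => force r fun q => Nat.add 4095 (Nat.mul (Nat.pow 2 16) q)) 2025

/-- The mark of thirteen bits in every entry. -/
noncomputable def low13 : ℕ :=
  Nat.rec (motive := fun _ => ℕ) 0 (fun _ r => force r fun q => Nat.add 8191 (Nat.mul (Nat.pow 2 16) q)) 2025

/-- The mark of one bit in every entry. -/
noncomputable def low1 : ℕ :=
  Nat.rec (motive := fun _ => ℕ) 0 (fun _ r => force r fun q => Nat.add 1 (Nat.mul (Nat.pow 2 16) q)) 2025

/-- All entries satisfy a test. -/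
noncomputable def entriesAre (X : ℕ) (v : ℕ → ℕ → ℕ) : Bool :=
  (List.range 45).all fun r => force (digit rowBits X r) fun R => (List.range 45).all fun j =>
    Nat.beq (digit 16 R j) (v r j)

theorem entriesAre_spec {X : ℕ} {v : ℕ → ℕ → ℕ} (h : entriesAre X v = true) {r j : ℕ} (hr : r < 45) (hj : j < 45) :
    entry X r j = v r j := by
  simp only [entriesAre, force_eq, List.all_eq_true, List.mem_range] at h
  exact Nat.eq_of_beq_eq_true (h r hr j hj)

theorem colM_entry : ∀ {r j : ℕ}, r < 45 → j < 45 → entry colM r j = if j = 0 then 7 else 0 :=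
  fun hr hj => entriesAre_spec (v := fun _ j => if j = 0 then 7 else 0) (by decide +kernel) hr hj

theorem low3_entry {r j : ℕ} (hr : r < 45) (hj : j < 45) : entry low3 r j = 7 :=
  entriesAre_spec (v := fun _ _ => 7) (by decide +kernel) hr hj

theorem low12_entry {r j : ℕ} (hr : r < 45) (hj : j < 45) : entry low12 r j = 4095 :=
  entriesAre_spec (v := fun _ _ => 4095) (by decide +kernel) hr hj

theorem colM_lt : colM < 2 ^ allBits := Nat.le_of_ble_eq_true (by decide +kernel : Nat.blt colM (2 ^ allBits) = true)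

/-- Add the column products from the `i`th column on. -/
noncomputable def prodFold (l : List ℕ) : ℕ → ℕ → ℕ → ℕ :=
  List.rec (motive := fun _ => ℕ → ℕ → ℕ → ℕ) (fun _ _ r => r)
    (fun e _ f X i r => force (Nat.add r (Nat.mul (Nat.land (Nat.shiftRight X (Nat.mul 16 i)) colM) e)) fun r' =>
      force (Nat.add i 1) fun i' => f X i' r') l

/-- A candidate for the residues of all entries. -/
noncomputable def residues (S : ℕ) : ℕ :=
  force low3 fun m3 => force low13 fun m13 =>
    force (Nat.add (Nat.land S m3) (Nat.land (Nat.shiftRight S 3) m13)) fun a =>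
    force (Nat.add (Nat.land a m3) (Nat.land (Nat.shiftRight a 3) m13)) fun b =>
    force (Nat.add (Nat.land b m3) (Nat.land (Nat.shiftRight b 3) m13)) fun c =>
    force (Nat.add (Nat.land c m3) (Nat.land (Nat.shiftRight c 3) m13)) fun d =>
    force (Nat.add (Nat.land d m3) (Nat.land (Nat.shiftRight d 3) m13)) fun e =>
      Nat.sub e (Nat.mul 7 (Nat.land (Nat.shiftRight (Nat.add e low1) 3) low1))

/-- The residues, once checked; nought otherwise. -/
noncomputable def reduceMat (S : ℕ) : ℕ :=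
  force (residues S) fun R => force (Nat.div (Nat.sub S R) 7) fun Q =>
    bif Nat.beq (Nat.land R low3) R && Nat.beq (Nat.land Q low12) Q && Nat.beq (Nat.add R (Nat.mul 7 Q)) S &&
      Nat.blt R (Nat.pow 2 allBits) && Nat.blt Q (Nat.pow 2 allBits)
    then R else 0

/-- Multiply on the right by a matrix given by its packed rows. -/
noncomputable def mulMat (X : ℕ) (l : List ℕ) : ℕ := reduceMat (prodFold l X 0 0)

/-- A packed matrix with residues as entries. -/
def Small (X : ℕ) : Prop := X < 2 ^ allBits ∧ ∀ r < 45, ∀ j < 45, entry X r j < 8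

/-- The residues, if checked against the quotients. -/
noncomputable def pickResidue (R Q S : ℕ) : ℕ :=
  bif Nat.beq (Nat.land R low3) R && Nat.beq (Nat.land Q low12) Q && Nat.beq (Nat.add R (Nat.mul 7 Q)) S &&
    Nat.blt R (Nat.pow 2 allBits) && Nat.blt Q (Nat.pow 2 allBits)
  then R else 0

theorem pickResidue_spec {R Q S : ℕ} (h : pickResidue R Q S ≠ 0) :
    pickResidue R Q S = R ∧ R &&& low3 = R ∧ Q &&& low12 = Q ∧ R + 7 * Q = S ∧ R < 2 ^ allBits ∧ Q < 2 ^ allBits := by
  unfold pickResidue at h ⊢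
  cases hc : (Nat.beq (Nat.land R low3) R && Nat.beq (Nat.land Q low12) Q && Nat.beq (Nat.add R (Nat.mul 7 Q)) S &&
      Nat.blt R (Nat.pow 2 allBits) && Nat.blt Q (Nat.pow 2 allBits)) with
  | false => rw [hc] at h; exact absurd rfl h
  | true =>
    simp only [Bool.and_eq_true] at hc
    obtain ⟨⟨⟨⟨h1, h2⟩, h3⟩, h4⟩, h5⟩ := hc
    exact ⟨rfl, Nat.eq_of_beq_eq_true h1, Nat.eq_of_beq_eq_true h2, Nat.eq_of_beq_eq_true h3,
      Nat.le_of_ble_eq_true h4, Nat.le_of_ble_eq_true h5⟩

theorem reduceMat_eq (S : ℕ) : reduceMat S = pickResidue (residues S) (Nat.div (Nat.sub S (residues S)) 7) S := by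
  rw [reduceMat, force_eq, force_eq]
  rfl

theorem entries_of_residue {R Q : ℕ} {s : ℕ → ℕ → ℕ} (hs : ∀ r < 45, ∀ j < 45, s r j < 2 ^ 16)
    (h1 : R &&& low3 = R) (h2 : Q &&& low12 = Q) (e : R + 7 * Q = packed s) (hR : R < 2 ^ allBits)
    (hQ : Q < 2 ^ allBits) : Small R ∧ ∀ r < 45, ∀ j < 45, (entry R r j : ZMod 7) = s r j := by
  have hr8 : ∀ r < 45, ∀ j < 45, entry R r j < 8 := fun r hr j hj => by
    rw [← h1, entry_land, low3_entry hr hj]
    exact Nat.lt_succ_of_le Nat.and_le_right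
  have hq : ∀ r < 45, ∀ j < 45, entry Q r j < 4096 := fun r hr j hj => by
    rw [← h2, entry_land, low12_entry hr hj]
    exact Nat.lt_succ_of_le Nat.and_le_right
  have hb : ∀ r < 45, ∀ j < 45, entry R r j + 7 * entry Q r j < 2 ^ 16 := fun r hr j hj => by
    have := hr8 r hr j hj
    have := hq r hr j hj
    omega
  have e2 : packed (fun r j => entry R r j + 7 * entry Q r j) = packed s := by
    rw [← e]
    conv_rhs => rw [eq_packed hR, eq_packed hQ]
    simp only [packed, add_mul, Finset.sum_add_distrib, Finset.mul_sum, Finset.sum_mul, mul_assoc]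
  refine ⟨⟨hR, hr8⟩, fun r hr j hj => ?_⟩
  have := congrArg (fun X => entry X r j) e2
  simp only [entry_packed hb hr hj, entry_packed hs hr hj] at this
  rw [← this, Nat.cast_add, Nat.cast_mul, show ((7 : ℕ) : ZMod 7) = 0 from ZMod.natCast_self 7, zero_mul, add_zero]

theorem reduceMat_spec {S : ℕ} {s : ℕ → ℕ → ℕ} (hS : S = packed s) (hs : ∀ r < 45, ∀ j < 45, s r j < 2 ^ 16)
    (hne : reduceMat S ≠ 0) : Small (reduceMat S) ∧ ∀ r < 45, ∀ j < 45, (entry (reduceMat S) r j : ZMod 7) = s r j := by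
  rw [reduceMat_eq] at hne ⊢
  generalize residues S = R at hne ⊢
  generalize Nat.div (Nat.sub S R) 7 = Q at hne ⊢
  obtain ⟨e, h1, h2, h3, h4, h5⟩ := pickResidue_spec hne
  rw [e]
  exact entries_of_residue hs h1 h2 (h3.trans hS) h4 h5

end Cfsg.Agent.Spor.Cos.ONRep
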