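import Cfsg.Agent.Lib.Spor.Cos.ONRep.Check
import Cfsg.Prelude.Def_Spor_ON

/-! The seven matrices as a projective representation in the general linear group. -/

set_option autoImplicit false
set_option maxRecDepth 100000

open Cfsg.Agent.Spor.Cos

namespace Cfsg.Agent.Spor.Cos.ONRep

/-- The general linear group in question. -/
abbrev G45 : Type := GL (Fin 45) (ZMod 7)

theorem small_unit : Small unitMat := by
  refine ⟨unit_lt, fun r hr j hj => ?_⟩
  rw [entriesAre_spec unit_ok hr hj]
  split <;> norm_num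

theorem toMat_unit : toMat unitMat = 1 := by
  refine Matrix.ext fun r j => ?_
  rw [toMat, entriesAre_spec unit_ok r.2 j.2, Matrix.one_apply]
  by_cases h : r = j
  · subst h; simp
  · rw [if_neg (fun e => h (Fin.ext e)), if_neg h, Nat.cast_zero]

theorem mulMat_zero (l : List ℕ) : mulMat 0 l = 0 := by
  have h : ∀ (l : List ℕ) (i : ℕ), prodFold l 0 i 0 = 0 := by
    intro l
    induction l with
    | nil => intro i; rfl
    | cons e l ih =>
      intro i
      rw [prodFold_eq]
      simp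
  unfold mulMat
  rw [h l 0, reduceMat_eq]
  unfold pickResidue
  cases hb : (Nat.beq (Nat.land (residues 0) low3) (residues 0) &&
      Nat.beq (Nat.land (Nat.div (Nat.sub 0 (residues 0)) 7) low12) (Nat.div (Nat.sub 0 (residues 0)) 7) &&
      Nat.beq (Nat.add (residues 0) (Nat.mul 7 (Nat.div (Nat.sub 0 (residues 0)) 7))) 0 &&
      Nat.blt (residues 0) (Nat.pow 2 allBits) && Nat.blt (Nat.div (Nat.sub 0 (residues 0)) 7) (Nat.pow 2 allBits)) with
  | false => rfl
  | true =>
    simp only [Bool.and_eq_true] at hb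
    have := Nat.eq_of_beq_eq_true hb.1.1.2
    simp only [cond_true]
    exact (Nat.add_eq_zero_iff.1 this).1

theorem goMat_zero : ∀ w : List ℕ, goMat w 0 = 0
  | [] => rfl
  | s :: w => by rw [goMat_cons, mulMat_zero, goMat_zero w]

theorem goMat_spec : ∀ (w : List ℕ), (∀ s ∈ w, s < 7) → ∀ X, Small X → goMat w X ≠ 0 →
    toMat (goMat w X) = toMat X * (w.map fun s => rowsMat (gRows s)).prod
  | [], _, X, _, _ => by simp [goMat]
  | s :: w, hw, X, hX, hne => by
    rw [goMat_cons] at hne ⊢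
    have h0 : mulMat X (gRows s) ≠ 0 := fun e => hne (by rw [e, goMat_zero])
    obtain ⟨hS, hm⟩ := mulMat_spec hX (gRows_ok s (hw s List.mem_cons_self)) h0
    rw [goMat_spec w (fun t ht => hw t (List.mem_cons_of_mem _ ht)) _ hS hne, hm, List.map_cons, List.prod_cons,
      Matrix.mul_assoc]

theorem unitMat_ne : unitMat ≠ 0 := fun e => by
  have h := entriesAre_spec unit_ok (r := 0) (j := 0) (by norm_num) (by norm_num)
  rw [e] at h
  simp [entry, digit] at h

theorem toMat_scalar {e : ℕ} (he : e < 3) : toMat (Nat.mul (2 ^ e) unitMat) = (2 : ZMod 7) ^ e • (1 : Matrix (Fin 45) (Fin 45) (ZMod 7)) := by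
  refine Matrix.ext fun r j => ?_
  rw [toMat, entriesAre_spec (scalar_ok e he) r.2 j.2, Matrix.smul_apply, Matrix.one_apply]
  by_cases h : r = j
  · subst h; simp
  · rw [if_neg (fun e => h (Fin.ext e)), if_neg h, Nat.cast_zero, smul_zero]

theorem matSq {s : ℕ} (hs : s < 7) : rowsMat (gRows s) * rowsMat (gRows s) = 1 := by
  have e := Nat.eq_of_beq_eq_true (List.all_eq_true.1 sq_ok s (List.mem_range.2 hs))
  have h := goMat_spec [s, s] (by simp [hs]) unitMat small_unit (by rw [e]; exact unitMat_ne)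
  rw [e, toMat_unit] at h
  simpa using h.symm

/-- A generator in the general linear group. -/
def gl45 (s : ℕ) : G45 :=
  if h : s < 7 then ⟨rowsMat (gRows s), rowsMat (gRows s), matSq h, matSq h⟩ else 1

theorem gl45_coe {s : ℕ} (h : s < 7) : ((gl45 s : G45) : Matrix (Fin 45) (Fin 45) (ZMod 7)) = rowsMat (gRows s) := by
  simp [gl45, h]

theorem gl45_sq (s : ℕ) : gl45 s * gl45 s = 1 := by
  by_cases h : s < 7
  · exact Units.ext (by rw [Units.val_mul, gl45_coe h, matSq h, Units.val_one])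
  · simp [gl45, h]

theorem ev_coe : ∀ w : List ℕ, (∀ s ∈ w, s < 7) →
    ((ev gl45 w : G45) : Matrix (Fin 45) (Fin 45) (ZMod 7)) = (w.map fun s => rowsMat (gRows s)).prod
  | [], _ => by simp [ev]
  | s :: w, h => by
    rw [ev, Units.val_mul, gl45_coe (h s List.mem_cons_self), ev_coe w fun t ht => h t (List.mem_cons_of_mem _ ht),
      List.map_cons, List.prod_cons]

/-- The scalar two, of order three. -/
def two45 : G45 :=
  ⟨(2 : ZMod 7) • 1, (4 : ZMod 7) • 1, by rw [smul_mul_smul_comm, mul_one, show (2 : ZMod 7) * 4 = 1 by decide, one_smul],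
    by rw [smul_mul_smul_comm, mul_one, show (4 : ZMod 7) * 2 = 1 by decide, one_smul]⟩

theorem two45_pow (e : ℕ) : ((two45 ^ e : G45) : Matrix (Fin 45) (Fin 45) (ZMod 7)) = (2 : ZMod 7) ^ e • 1 := by
  induction e with
  | zero => simp
  | succ e ih =>
    rw [pow_succ, Units.val_mul, ih, pow_succ]
    show ((2 : ZMod 7) ^ e • (1 : Matrix (Fin 45) (Fin 45) (ZMod 7))) * ((2 : ZMod 7) • 1) = _
    rw [smul_mul_smul_comm, mul_one]

theorem two45_central (x : G45) : x * two45 = two45 * x :=
  Units.ext (by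
    show (x : Matrix (Fin 45) (Fin 45) (ZMod 7)) * ((2 : ZMod 7) • 1) = ((2 : ZMod 7) • 1) * (x : Matrix (Fin 45) (Fin 45) (ZMod 7))
    rw [Matrix.mul_smul, Matrix.smul_mul, mul_one, one_mul])

theorem ev_rel {r : List ℕ × ℕ} (hr : r ∈ ON.words.zip rep45k) : ev gl45 r.1 = two45 ^ r.2 := by
  have e := Nat.eq_of_beq_eq_true (List.all_eq_true.1 rel_ok r hr)
  have hk : r.2 < 3 := Nat.le_of_ble_eq_true (List.all_eq_true.1 rel_exp r.2 (List.of_mem_zip hr).2)
  have hw : ∀ s ∈ r.1, s < 7 := fun s hs =>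
    Nat.le_of_ble_eq_true (List.all_eq_true.1 (List.all_eq_true.1 rel_letters r.1 (List.of_mem_zip hr).1) s hs)
  have h := goMat_spec r.1 hw unitMat small_unit (by
    rw [e]; exact Nat.mul_ne_zero (pow_ne_zero _ two_ne_zero) unitMat_ne)
  rw [e, toMat_unit, one_mul, toMat_scalar hk] at h
  exact Units.ext (by rw [ev_coe _ hw, two45_pow, h])

theorem gl45_diag : rowsMat (gRows 0) (0 : Fin 45) (0 : Fin 45) ≠ 1 := by decide +kernel

theorem gl45_ne : gl45 0 ≠ 1 := fun h => gl45_diag (by
  rw [← gl45_coe (s := 0) (by norm_num), h, Units.val_one, Matrix.one_apply_eq])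

end Cfsg.Agent.Spor.Cos.ONRep
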